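import Groth.Agent.Lib.FPHom13.Pieces
import Groth.Agent.Lib.QcohEt15.SuppSplit
import Groth.Agent.Lib.QcohEt15.Colim.Site
import Mathlib.Algebra.Category.ModuleCat.Sheaf.PushforwardContinuous
import Mathlib.CategoryTheory.Sites.Equivalence

/-! `Hom(G, -)` preserves directed colimits of modules on a quasi-compact quasi-separated space. -/

set_option autoImplicit false
set_option linter.style.haveILetI false
set_option backward.isDefEq.respectTransparency false
set_option backward.isDefEq.respectTransparency.types false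

universe u

open CategoryTheory CategoryTheory.Limits Opposite AlgebraicGeometry

noncomputable section

namespace Groth.Agent.FPHom13

open AlgSp Groth.Agent.AlgSpace Groth.Agent.AlgSpEt Groth.Agent.QcohEt15

variable {S : Scheme.{u}} (X : Sp S)

/-- A small model of the étale site. -/
abbrev SC : Type (u + 1) := ULiftHom.{u + 1} (EtOver X)

/-- The comparison. -/
abbrev eqv : SC X ≌ EtOver X := (ULiftHom.equiv (C := EtOver X)).symm

/-- The topology. -/
abbrev sTop : GrothendieckTopology (SC X) := (eqv X).functor.inducedTopology (etTop X)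

instance : (eqv X).functor.IsDenseSubsite (sTop X) (etTop X) := by infer_instance

instance : (eqv X).inverse.IsDenseSubsite (etTop X) (sTop X) :=
  inferInstanceAs ((eqv X).symm.functor.IsDenseSubsite (etTop X)
    ((eqv X).symm.inverse.inducedTopology (etTop X)))

instance : Functor.IsContinuous (eqv X).inverse (etTop X) (sTop X) := by infer_instance

/-- The structure sheaf on the small model. -/
abbrev O' : Sheaf (sTop X) CommRingCat.{u + 1} :=
  ((eqv X).functor.sheafPushforwardContinuous CommRingCat.{u + 1} (sTop X) (etTop X)).obj (OEt X)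

/-- The comparison of rings. -/
def phi : ModSite.ringSh (O' X) ⟶
    ((eqv X).functor.sheafPushforwardContinuous RingCat.{u + 1} (sTop X) (etTop X)).obj (OEtRing X) :=
  ⟨{ app := fun U => 𝟙 _, naturality := fun _ _ _ => (Category.comp_id _).trans (Category.id_comp _).symm }⟩

instance : IsIso (phi X) :=
  ⟨⟨{ app := fun U => 𝟙 _, naturality := fun _ _ _ => (Category.comp_id _).trans (Category.id_comp _).symm }⟩,
    by ext U x; rfl, by ext U x; rfl⟩

/-- The comparison of rings, backwards. -/
def psi : OEtRing X ⟶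
    ((eqv X).inverse.sheafPushforwardContinuous RingCat.{u + 1} (etTop X) (sTop X)).obj (ModSite.ringSh (O' X)) :=
  ⟨{ app := fun U => 𝟙 _, naturality := fun _ _ _ => (Category.comp_id _).trans (Category.id_comp _).symm }⟩

/-- Restriction to the small model. -/
abbrev resM : ModEt X ⥤ ModSite.Mod (O' X) := SheafOfModules.pushforward.{u + 1} (phi X)

/-- Modules on the small model. -/
def modEquiv : ModEt X ≌ ModSite.Mod (O' X) :=
  SheafOfModules.pushforwardPushforwardEquivalence.{u + 1} (J := sTop X) (K := etTop X)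
    (eqv X) (S := ModSite.ringSh (O' X)) (R := OEtRing X) (phi X) (psi X)
    (by ext U x; simp [phi, psi]; exact ConcreteCategory.congr_hom ((OEtRing X).obj.map_id U) x)
    (by ext U x; simp [phi, psi]; exact ConcreteCategory.congr_hom ((OEtRing X).obj.map_id _) x)

instance : (resM X).IsEquivalence := (modEquiv X).isEquivalence_functor

variable {X}

theorem isFinitePresentation_modEquiv (G : ModEt X) [G.IsFinitePresentation] :
    SheafOfModules.IsFinitePresentation (R := ModSite.ringSh (O' X)) ((resM X).obj G) := by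
  obtain ⟨σ, hσ⟩ := SheafOfModules.IsFinitePresentation.exists_quasicoherentData G
  haveI : ∀ T, Functor.IsContinuous (Over.post (X := T) (eqv X).functor) ((sTop X).over T) ((etTop X).over _) :=
    fun T => Functor.isContinuous_of_coverPreserving (compatiblePreservingOfFlat _ _)
      ((Functor.IsDenseSubsite.coverPreserving (sTop X) (etTop X) (eqv X).functor).overPost T)
  have h : ∀ (T : SC X) (Y : EtOver X) (f : (eqv X).functor.obj T ⟶ Y),
      PreservesColimitsOfSize.{u + 1, u + 1} <|
      SheafOfModules.pushforward.{u + 1} (R := (OEtRing X).over Y)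
        (F := Over.post (X := T) (eqv X).functor ⋙ Over.map f)
        (((Over.forget T).sheafPushforwardContinuous RingCat.{u + 1} ((sTop X).over T) (sTop X)).map (phi X)) := by
    intro T Y f
    let G' := Over.post (X := T) (eqv X).functor ⋙ Over.map f
    haveI : G'.IsContinuous ((sTop X).over T) ((etTop X).over Y) :=
      Functor.isContinuous_comp _ _ _ ((etTop X).over _) _
    haveI : G'.IsCocontinuous ((sTop X).over T) ((etTop X).over Y) :=
      isCocontinuous_comp _ _ _ ((etTop X).over _)
    let a : (ModSite.ringSh (O' X)).over T ⟶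
        (G'.sheafPushforwardContinuous RingCat.{u + 1} ((sTop X).over T) ((etTop X).over Y)).obj ((OEtRing X).over Y) :=
      ((Over.forget T).sheafPushforwardContinuous RingCat.{u + 1} ((sTop X).over T) (sTop X)).map (phi X)
    haveI : (SheafOfModules.pushforward.{u + 1} a).IsLeftAdjoint := SheafOfModules.isLeftAdjoint_pushforward_of_isIso a
    infer_instance
  let η : (SheafOfModules.pushforward (phi X)).obj (SheafOfModules.unit (OEtRing X)) ≅
      SheafOfModules.unit (ModSite.ringSh (O' X)) := Iso.refl _
  let q := σ.pushforward (eqv X).functor (phi X) η h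
  have hfin : ∀ i : q.I, (q.presentation i).IsFinite := fun i => by
    have := hσ.isFinite_presentation i.2.1
    have h₁ : (q.presentation i).generators.IsFiniteType :=
      ⟨inferInstanceAs (Finite (σ.presentation i.2.1).generators.I)⟩
    have h₂ : (q.presentation i).relations.IsFiniteType :=
      ⟨inferInstanceAs (Finite (σ.presentation i.2.1).relations.I)⟩
    exact ⟨h₁, h₂⟩
  have hf : q.IsFinitePresentation := { isFinite_presentation := hfin }
  exact @SheafOfModules.IsFinitePresentation.mk _ _ _ _ _ _ ((resM X).obj G) (Exists.intro q hf)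

theorem mem_sTop_iff {E : SC X} {R : Sieve E} :
    R ∈ sTop X E ↔ ∀ x : ↥((eqv X).functor.obj E).obj.left.left, ∃ (W : SC X) (g : W ⟶ E), R g ∧
      x ∈ Set.range ((eqv X).functor.map g).hom.left.left := by
  rw [Functor.mem_inducedTopology_iff_of_isCoverDense, QcohEt15.Colim.mem_etTop_iff]
  refine ⟨fun h x => ?_, fun h x => ?_⟩
  · obtain ⟨Y, f, ⟨W, g, k, hg, rfl⟩, y, hy⟩ := h x
    exact ⟨W, g, hg, k.hom.left.left y, hy⟩
  · obtain ⟨W, g, hg, hx⟩ := h x
    exact ⟨_, _, Sieve.image_mem_functorPushforward _ _ hg, hx⟩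

theorem isQCSite_of_compact (U : SC X) (hU : CompactSpace ↥((eqv X).functor.obj U).obj.left.left) :
    ToposFin.IsQCSite (sTop X) U := by
  intro R hR
  choose W g hg hx using mem_sTop_iff.1 hR
  have hopen : ∀ x, IsOpen (Set.range ((eqv X).functor.map (g x)).hom.left.left) := fun x => by
    have := EtOver.etale_left ((eqv X).functor.map (g x))
    exact ((eqv X).functor.map (g x)).hom.left.left.isOpenMap.isOpen_range
  obtain ⟨t, ht⟩ := isCompact_univ.elim_finite_subcover
    (fun x => Set.range ((eqv X).functor.map (g x)).hom.left.left) hopen (fun x _ => Set.mem_iUnion.2 ⟨x, hx x⟩)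
  refine ⟨t.card, fun k => W (t.equivFin.symm k), fun k => g (t.equivFin.symm k), fun k => hg _, ?_⟩
  refine mem_sTop_iff.2 fun x => ?_
  obtain ⟨z, hz, y, hy⟩ := Set.mem_iUnion₂.1 (ht (Set.mem_univ x))
  obtain ⟨k, rfl⟩ : ∃ k, (t.equivFin.symm k).1 = z := ⟨t.equivFin ⟨z, hz⟩, by simp⟩
  exact ⟨_, g (t.equivFin.symm k), Sieve.ofArrows_mk _ _ k, y, hy⟩

variable [QuasiSeparatedSpace ↥S]

theorem preservesColimit_coyoneda (hX : IsAlgSpace X) (hqc : IsQuasiCompactSp X) (hqs : IsQuasiSeparatedSp X)
    (G : ModEt X) [G.IsFinitePresentation] {Λ : Type (u + 1)} [SmallCategory Λ] [IsFiltered Λ] (D : Λ ⥤ ModEt X) :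
    PreservesColimit D (coyoneda.obj (op G)) := by
  haveI := isFinitePresentation_modEquiv G
  let Φ := resM X
  haveI : PreservesColimit (D ⋙ Φ) (coyoneda.obj (op (Φ.obj G))) := by
    refine FinPres16.preservesColimit_coyoneda {K | CohCx.IsQcObject (K ⨯ K)} (fun F hF => ?_) (fun K hK => hK)
      (Φ.obj G) (D ⋙ Φ)
    haveI : Sheaf.IsLocallySurjective (terminal.from F) := (Sheaf.isLocallySurjective_iff_epi' _ _).2 inferInstance
    obtain ⟨T, p, hT, hpe, hps⟩ := exists_affine_chart hqc
    let E₀ : EtOver X := EtOver.mk p hpe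
    haveI : IsAffine E₀.obj.left.left := hT
    let E : SC X := ULiftHom.objUp E₀
    let e : (⊤_ (Sheaf (sTop X) (Type (u + 1)))).obj.obj (op E) :=
      FinPres16.el _ (terminal.from ((presheafToSheaf (sTop X) (Type (u + 1))).obj (yoneda.obj E)))
    have hcov := mem_sTop_iff.1 (Presheaf.imageSieve_mem (sTop X) (terminal.from F).hom (U := op E) e)
    choose V g hg hx using hcov
    haveI : CompactSpace ↥((eqv X).functor.obj E).obj.left.left := inferInstanceAs (CompactSpace ↥E₀.obj.left.left)
    have hopen : ∀ x, IsOpen (Set.range ((eqv X).functor.map (g x)).hom.left.left) := fun x => by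
      have := EtOver.etale_left ((eqv X).functor.map (g x))
      exact ((eqv X).functor.map (g x)).hom.left.left.isOpenMap.isOpen_range
    choose s hs using hg
    have haff : ∀ x, ∃ (O : EtOver X) (o : O ⟶ (eqv X).functor.obj (V x)), IsAffine O.obj.left.left ∧
        x ∈ Set.range (o ≫ (eqv X).functor.map (g x)).hom.left.left := fun x => by
      obtain ⟨y, hy⟩ := hx x
      obtain ⟨O, hO⟩ := QcohEt15.exists_openSub_mem ((eqv X).functor.obj (V x)) y
      obtain ⟨z, hz⟩ := hO
      exact ⟨_, AlgSpEt14.openSubι _ O.1, O.2, z,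
        (congrArg ((eqv X).functor.map (g x)).hom.left.left hz).trans hy⟩
    choose O o hO hxO using haff
    have hopenO : ∀ x, IsOpen (Set.range (o x ≫ (eqv X).functor.map (g x)).hom.left.left) := fun x => by
      have := EtOver.etale_left (o x ≫ (eqv X).functor.map (g x))
      exact (o x ≫ (eqv X).functor.map (g x)).hom.left.left.isOpenMap.isOpen_range
    obtain ⟨t, ht⟩ := isCompact_univ.elim_finite_subcover
      (fun x => Set.range (o x ≫ (eqv X).functor.map (g x)).hom.left.left) hopenO
      (fun x _ => Set.mem_iUnion.2 ⟨x, hxO x⟩)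
    let U : ULift.{u + 1} {x // x ∈ t} → SC X := fun x => ULiftHom.objUp (O x.down.1)
    let m : ∀ x, U x ⟶ V x.down.1 := fun x => (eqv X).functor.preimage (o x.down.1)
    have hq : ∀ a, QcohEt15.Colim.qcqs X (O a) := fun a => by
      haveI := hO a; exact QcohEt15.Colim.qcqs_of_isAffine _
    let P : ULift.{u + 1} {x // x ∈ t} → ULift.{u + 1} {x // x ∈ t} → SC X :=
      fun a b => ULiftHom.objUp (EtOver.prodObj (O a.down.1) (O b.down.1))
    refine ⟨_, ?_, ?_, ⟨FinPres16.piecesDesc F fun a : ULift.{u + 1} {x // x ∈ t} => F.obj.map (m a).op (s a.down.1)⟩⟩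
    · refine isQcObject_prod_pieces U P
        (fun a b => (eqv X).functor.preimage (EtOver.prodFst (O a.down.1) (O b.down.1)))
        (fun a b => (eqv X).functor.preimage (EtOver.prodSnd (O a.down.1) (O b.down.1)))
        (fun a b {W} u' v' => ?_) fun a b =>
          isQCSite_of_compact _ (QcohEt15.Colim.qcqs_prodObj hX hqs (hq a.down.1) (hq b.down.1)).1
      obtain ⟨l, hl1, hl2⟩ := BinaryFan.IsLimit.lift' (EtOver.prodIsLimit (O a.down.1) (O b.down.1))
        ((eqv X).functor.map u') ((eqv X).functor.map v')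
      refine ⟨(eqv X).functor.preimage l, (eqv X).functor.map_injective ?_, (eqv X).functor.map_injective ?_⟩
      · rw [Functor.map_comp, Functor.map_preimage, Functor.map_preimage]; exact hl1
      · rw [Functor.map_comp, Functor.map_preimage, Functor.map_preimage]; exact hl2
    refine (Sheaf.isLocallySurjective_iff_epi' _ _).1 ⟨fun {W} y => ?_⟩
    refine (sTop X).superset_covering ?_ ((mem_sTop_iff (R :=
      ({ arrows := fun W' (_ : W' ⟶ W) => ∃ a, Nonempty (W' ⟶ U a)
         downward_closed := fun {W' W''} _ ⟨a, ⟨k⟩⟩ h => ⟨a, ⟨h ≫ k⟩⟩ } : Sieve W))).2 fun x => ?_)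
    · rintro W' k ⟨a, ⟨l⟩⟩
      exact ⟨(toSheafify _ (FinPres16.pieces U)).app (op W') ⟨a, l⟩, FinPres16.terminal_sections_eq _ _⟩
    obtain ⟨q, hq', l, rfl⟩ := exists_geometric_lift ((eqv X).functor.obj W) x
    obtain ⟨v, hv⟩ := surjective_ofPt hps (Points.mk q)
    obtain ⟨n₀, hn₀⟩ := exists_lift_of_point q hq' E₀ v hv
    obtain ⟨y', hy', z, hz⟩ := Set.mem_iUnion₂.1 (ht (Set.mem_univ v))
    obtain ⟨n₁, hn₁⟩ := exists_lift_of_point q hq' (O y') z (by
      rw [ofPt_map (o y' ≫ (eqv X).functor.map (g y')) z, hz]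
      exact hv)
    obtain ⟨n, hn, -⟩ := exists_lift_prod q l n₁
    refine ⟨ULiftHom.objUp (EtOver.prodObj ((eqv X).functor.obj W) (O y')),
      (eqv X).functor.preimage (EtOver.prodFst ((eqv X).functor.obj W) (O y')),
      ⟨⟨⟨y', hy'⟩⟩, ⟨(eqv X).functor.preimage (EtOver.prodSnd ((eqv X).functor.obj W) (O y'))⟩⟩, liftPt q n, ?_⟩
    rw [Functor.map_preimage]
    exact (liftPt_map q _ n).symm.trans (congrArg (liftPt q) hn)
  haveI : PreservesColimit D (Φ ⋙ coyoneda.obj (op (Φ.obj G))) := inferInstance
  exact preservesColimit_of_natIso D (F := Φ ⋙ coyoneda.obj (op (Φ.obj G))) (NatIso.ofComponents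
    (fun F => ((Functor.FullyFaithful.ofFullyFaithful (resM X)).homEquiv (X := G) (Y := F)).symm.toIso)
    (fun {F F'} k => by
      ext f
      exact (resM X).map_injective (by simp [Φ])))

end Groth.Agent.FPHom13
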