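import Groth.Agent.Lib.FinPres16.HomSpace

/-! The product of two copies of a finite sum of representables with quasi-compact products is quasi-compact. -/

set_option autoImplicit false
set_option linter.style.haveILetI false
set_option linter.unusedSectionVars false
set_option backward.isDefEq.respectTransparency false
set_option backward.isDefEq.respectTransparency.types false

universe u

open CategoryTheory CategoryTheory.Limits Opposite

noncomputable section

namespace Groth.Agent.FPHom13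

open FinPres16 ModFlat16

variable {C : Type u} [SmallCategory C] {J : GrothendieckTopology C}

theorem isQcObject_prod_pieces {𝒜 : Type u} [Finite 𝒜] (U : 𝒜 → C) (P : 𝒜 → 𝒜 → C)
    (p : ∀ a b, P a b ⟶ U a) (q : ∀ a b, P a b ⟶ U b)
    (hlift : ∀ a b {W : C} (u : W ⟶ U a) (v : W ⟶ U b), ∃ n : W ⟶ P a b, n ≫ p a b = u ∧ n ≫ q a b = v)
    (hqc : ∀ a b, ToposFin.IsQCSite J (P a b)) :
    CohCx.IsQcObject ((presheafToSheaf J (Type u)).obj (pieces U) ⨯ (presheafToSheaf J (Type u)).obj (pieces U)) := by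
  classical
  cases nonempty_fintype 𝒜
  let K := (presheafToSheaf J (Type u)).obj (pieces U)
  intro I L f hf
  let sec : ∀ a b, K.obj.obj (op (P a b)) × K.obj.obj (op (P a b)) := fun a b =>
    ((toSheafify _ (pieces U)).app (op (P a b)) ⟨a, p a b⟩,
      (toSheafify _ (pieces U)).app (op (P a b)) ⟨b, q a b⟩)
  let z : ∀ a b, (K ⨯ K).obj.obj (op (P a b)) := fun a b =>
    el (K ⨯ K) (prod.lift ((el K).symm (sec a b).1) ((el K).symm (sec a b).2))
  have hz1 : ∀ a b, (prod.fst : K ⨯ K ⟶ K).hom.app (op _) (z a b) = (sec a b).1 := fun a b => by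
    rw [← el_comp, prod.lift_fst, Equiv.apply_symm_apply]
  have hz2 : ∀ a b, (prod.snd : K ⨯ K ⟶ K).hom.app (op _) (z a b) = (sec a b).2 := fun a b => by
    rw [← el_comp, prod.lift_snd, Equiv.apply_symm_apply]
  choose T hT hT' using fun ab : 𝒜 × 𝒜 => hf _ (z ab.1 ab.2)
  choose n V g hg hcov using fun ab : 𝒜 × 𝒜 => hqc ab.1 ab.2 (T ab) (hT ab)
  choose i w hw using fun ab k => hT' ab _ (g ab k) (hg ab k)
  refine ⟨Finset.univ.biUnion fun ab => Finset.univ.image (i ab), fun W₀ x => ?_⟩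
  obtain ⟨T₁, hT₁, h₁⟩ := exists_piece ((prod.fst : K ⨯ K ⟶ K).hom.app (op W₀) x)
  refine bind_cover T₁ hT₁ fun W₁ m₁ hm₁ => ?_
  obtain ⟨a, u, hu⟩ := h₁ m₁ hm₁
  obtain ⟨T₂, hT₂, h₂⟩ := exists_piece (K.obj.map m₁.op ((prod.snd : K ⨯ K ⟶ K).hom.app (op W₀) x))
  refine bind_cover (Q := fun W' m' => ∃ (j : (Finset.univ.biUnion fun ab => Finset.univ.image (i ab) : Finset I))
    (y : (L j.1).obj.obj (op W')),
    (f j.1).hom.app (op W') y = (K ⨯ K).obj.map (m' ≫ m₁).op x) T₂ hT₂ fun W₂ m₂ hm₂ => ?_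
  obtain ⟨b, v, hv⟩ := h₂ m₂ hm₂
  obtain ⟨l, hl1, hl2⟩ := hlift a b (m₂ ≫ u) v
  have hx : (K ⨯ K).obj.map (m₂ ≫ m₁).op x = (K ⨯ K).obj.map l.op (z a b) := by
    have hu' := hu.res (𝟙 _) m₂
    unfold Real at hu' hv
    refine prod_sections_ext ?_ ?_
    · rw [NatTrans.naturality_apply (prod.fst : K ⨯ K ⟶ K).hom, NatTrans.naturality_apply (prod.fst : K ⨯ K ⟶ K).hom,
        hz1, op_comp, Functor.map_comp_apply]
      refine hu'.trans ?_
      refine Eq.trans ?_ (NatTrans.naturality_apply (toSheafify _ (pieces U)) l.op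
        (⟨a, p a b⟩ : (pieces U).obj (op (P a b))))
      exact congrArg _ (congrArg (Sigma.mk (β := fun c => W₂ ⟶ U c) a) hl1.symm)
    · rw [NatTrans.naturality_apply (prod.snd : K ⨯ K ⟶ K).hom, NatTrans.naturality_apply (prod.snd : K ⨯ K ⟶ K).hom,
        hz2, op_comp, Functor.map_comp_apply]
      refine hv.trans ?_
      refine Eq.trans ?_ (NatTrans.naturality_apply (toSheafify _ (pieces U)) l.op
        (⟨b, q a b⟩ : (pieces U).obj (op (P a b))))
      exact congrArg _ (congrArg (Sigma.mk (β := fun c => W₂ ⟶ U c) b) hl2.symm)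
  refine ⟨_, J.pullback_stable l (hcov (a, b)), fun W₃ m₃ hm₃ => ?_⟩
  obtain ⟨k, h, he⟩ := (Sieve.mem_ofArrows_iff _ _ _).1 hm₃
  refine ⟨⟨i (a, b) k, Finset.mem_biUnion.2 ⟨(a, b), Finset.mem_univ _,
    Finset.mem_image_of_mem _ (Finset.mem_univ k)⟩⟩, (L (i (a, b) k)).obj.map h.op (w (a, b) k), ?_⟩
  rw [Category.assoc, op_comp (f := m₃), Functor.map_comp_apply, hx, NatTrans.naturality_apply (f (i (a, b) k)).hom,
    hw, ← Functor.map_comp_apply, ← Functor.map_comp_apply, ← op_comp, ← op_comp, he]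

end Groth.Agent.FPHom13
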